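import Groth.Agent.SuppD7.Main

/-!
# Supports in open immersions, and coproducts
-/

set_option autoImplicit false
set_option linter.style.haveILetI false
set_option backward.isDefEq.respectTransparency false
set_option backward.isDefEq.respectTransparency.types false

universe u

open CategoryTheory CategoryTheory.Limits AlgebraicGeometry TopologicalSpace Pretriangulated

attribute [local instance] HasDerivedCategory.standard

noncomputable section

namespace Groth.Agent.SuppD7

open Groth.Agent.KFlatLib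

variable {X Y : Scheme.{u}}

/-- Supports only depend on the complement of the open. -/
lemma isSuppD_mono {U V : Scheme.{u}} (j : U ⟶ X) [IsOpenImmersion j] (k : V ⟶ X) [IsOpenImmersion k]
    (h : Set.range k.base ⊆ Set.range j.base) {K : DCoh.D X} (hK : CxOX.IsSuppD j K) : CxOX.IsSuppD k K :=
  fun i => (hK i).trans (Set.compl_subset_compl.2 h)

lemma isSuppD_union {U V : Scheme.{u}} (j : U ⟶ X) [IsOpenImmersion j] (k : V ⟶ X) [IsOpenImmersion k]
    {W : Scheme.{u}} (l : W ⟶ X) [IsOpenImmersion l]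
    (h : Set.range l.base ⊆ Set.range j.base ∪ Set.range k.base) {K : DCoh.D X} (hj : CxOX.IsSuppD j K)
    (hk : CxOX.IsSuppD k K) : CxOX.IsSuppD l K := by
  intro i x hx hxl
  rcases h hxl with h' | h'
  · exact hj i hx h'
  · exact hk i hx h'

lemma isZero_of_isSuppD {W : Scheme.{u}} (l : W ⟶ X) [IsOpenImmersion l] (h : Set.range l.base = Set.univ)
    {K : DCoh.D X} (hK : CxOX.IsSuppD l K) : IsZero K := by
  rw [isZero_iff_hd]
  refine fun i => isZero_of_stalk _ fun x => ?_
  haveI : Subsingleton ((DCoh.HD K i).presheaf.stalk x) :=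
    not_not.1 fun hn => hK i hn (h.symm ▸ Set.mem_univ x)
  exact @ModuleCat.isZero_of_subsingleton _ _ _ (inferInstanceAs
    (Subsingleton ((DCoh.HD K i).presheaf.stalk x)))

/-- Direct images of objects vanishing on a preimage vanish on the open. -/
lemma isSuppD_rpush (f : X ⟶ Y) [DCoh.HasRpush f] (V : Y.Opens) {F : DCoh.D X}
    (hF : CxOX.IsSuppD (f ⁻¹ᵁ V).ι F) : CxOX.IsSuppD V.ι ((DCoh.Rpush f).obj F) := by
  haveI := hasRpush_scheme (f ∣_ V)
  obtain ⟨eR⟩ := nonempty_rpush_restrictD_iso f V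
  exact (isSuppD_iff V.ι _).2
    ((isZero_rpush (f ∣_ V) ((isSuppD_iff _ _).1 hF)).of_iso (eR.app _))

section

variable {U : Scheme.{u}} (j : U ⟶ X) [IsOpenImmersion j] [DCoh.HasRpush j]
  (adj : DCoh.restrictD j ⊣ DCoh.Rpush j)

lemma isIso_counit : IsIso adj.counit :=
  adj.isIso_counit_of_iso (PerfGen7.nonempty_rpush_restrictD_self j).some

/-- The cone of the unit is supported off the open. -/
lemma exists_unit_triangle (G : DCoh.D X) :
    ∃ (C : DCoh.D X) (g : (DCoh.Rpush j).obj ((DCoh.restrictD j).obj G) ⟶ C) (h : C ⟶ G⟦(1 : ℤ)⟧),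
      Triangle.mk (adj.unit.app G) g h ∈ distTriang (DCoh.D X) ∧ CxOX.IsSuppD j C := by
  obtain ⟨C, g, h, hT⟩ := distinguished_cocone_triangle (adj.unit.app G)
  refine ⟨C, g, h, hT, (isSuppD_iff j C).2 ?_⟩
  haveI := isIso_counit j adj
  haveI : IsIso (adj.counit.app ((DCoh.restrictD j).obj G)) := inferInstance
  have hm : IsIso ((DCoh.restrictD j).map (adj.unit.app G)) := by
    have e := adj.left_triangle_components G
    rw [← IsIso.eq_comp_inv, Category.id_comp] at e
    rw [e]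
    infer_instance
  exact (Triangle.isZero₃_iff_isIso₁ _ ((DCoh.restrictD j).map_distinguished _ hT)).2 hm

end

variable {Xbar : Scheme.{u}} (j : X ⟶ Xbar) [IsOpenImmersion j] [DCoh.HasRpush j]

theorem supported_equiv (U : X.Opens) (U' T : Xbar.Opens)
    (hU' : (U' : Set Xbar) = (closure (j.base '' ((U : Set X)ᶜ)))ᶜ)
    (hT : (T : Set Xbar) = (U' : Set Xbar) ∪ Set.range j.base)
    [CxOX.HasRgammaZ T.ι] (adj : DCoh.restrictD j ⊣ DCoh.Rpush j) :
    (∀ F : DCoh.D X, CxOX.IsSuppD U.ι F →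
        CxOX.IsSuppD U'.ι ((DCoh.Rpush j).obj F) ∧ IsZero ((CxOX.RgammaZ T.ι).obj ((DCoh.Rpush j).obj F))) ∧
    (∀ F : DCoh.D X, IsIso (adj.counit.app F)) ∧
    (∀ G : DCoh.D Xbar, CxOX.IsSuppD U'.ι G → IsZero ((CxOX.RgammaZ T.ι).obj G) →
        IsIso (adj.unit.app G) ∧ CxOX.IsSuppD U.ι ((DCoh.restrictD j).obj G)) := by
  haveI := hasRpush_scheme T.ι
  have hjT : Set.range j.base ⊆ Set.range T.ι.base := by
    rw [Scheme.Opens.range_ι, hT]
    exact Set.subset_union_right
  have hTsub : Set.range T.ι.base ⊆ Set.range U'.ι.base ∪ Set.range j.base := by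
    rw [Scheme.Opens.range_ι, Scheme.Opens.range_ι, hT]
  have hpre : Set.range (j ⁻¹ᵁ U').ι.base ⊆ Set.range U.ι.base := by
    rw [Scheme.Opens.range_ι, Scheme.Opens.range_ι]
    intro x hx
    by_contra hxU
    have hx' : j.base x ∈ (U' : Set Xbar) := hx
    rw [hU'] at hx'
    exact hx' (subset_closure ⟨x, hxU, rfl⟩)
  have h1 : ∀ F : DCoh.D X, CxOX.IsSuppD U.ι F →
      CxOX.IsSuppD U'.ι ((DCoh.Rpush j).obj F) ∧ IsZero ((CxOX.RgammaZ T.ι).obj ((DCoh.Rpush j).obj F)) := by
    refine fun F hF => ⟨isSuppD_rpush j U' (isSuppD_mono U.ι _ hpre hF), ?_⟩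
    have hΓ := isSuppD_RgammaZ T.ι ((DCoh.Rpush j).obj F)
    rw [IsZero.iff_id_eq_zero]
    refine (bijective_RgammaZToId T.ι _ hΓ).1 ?_
    exact (eq_zero_of_isSuppD j (isSuppD_mono T.ι j hjT hΓ) _).trans
      (eq_zero_of_isSuppD j (isSuppD_mono T.ι j hjT hΓ) _).symm
  have h3 : ∀ G : DCoh.D Xbar, CxOX.IsSuppD U'.ι G → CxOX.IsSuppD U.ι ((DCoh.restrictD j).obj G) := by
    intro G hG i x hx hxU
    rw [Scheme.Opens.range_ι] at hxU
    obtain ⟨e⟩ := nonempty_hd_restrictD j G i
    have hns : ¬ Subsingleton ((DCoh.HD G i).presheaf.stalk (j.base x)) := by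
      intro hs
      apply hx
      have e' := (DerSch.stalkFunctor X x).mapIso e
      haveI : Subsingleton (((Scheme.Modules.restrictFunctor j).obj (DCoh.HD G i)).presheaf.stalk x) :=
        @Equiv.subsingleton _ _
          (((Scheme.Modules.restrictStalkNatIso j x).app (DCoh.HD G i)).addCommGroupIsoToAddEquiv).toEquiv hs
      exact @Equiv.subsingleton _ _ e'.toLinearEquiv.toEquiv (inferInstanceAs
        (Subsingleton (((Scheme.Modules.restrictFunctor j).obj (DCoh.HD G i)).presheaf.stalk x)))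
    refine hG i hns ?_
    rw [Scheme.Opens.range_ι, hU']
    intro hcl
    have hemb := j.isOpenEmbedding
    have : x ∈ closure ((U : Set X)ᶜ) := by
      rw [hemb.isEmbedding.isInducing.closure_eq_preimage_closure_image]
      exact hcl
    rw [(show IsOpen (U : Set X) from U.2).isClosed_compl.closure_eq] at this
    exact this hxU
  refine ⟨h1, fun F => ?_, fun G hG hΓ => ⟨?_, h3 G hG⟩⟩
  · haveI := isIso_counit j adj
    infer_instance
  · obtain ⟨C, g, h, hTr, hC⟩ := exists_unit_triangle j adj G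
    have hR := (h1 _ (h3 G hG)).1
    have hCU : CxOX.IsSuppD U'.ι C := by
      refine (isSuppD_iff U'.ι C).2 ?_
      refine Triangle.isZero₂_of_isZero₁₃ _ (rot_of_distTriang _
        ((DCoh.restrictD U'.ι).map_distinguished _ hTr)) ?_ ?_
      · exact (isSuppD_iff _ _).1 hR
      · exact Functor.map_isZero _ ((isSuppD_iff _ _).1 hG)
    have hCT : CxOX.IsSuppD T.ι C := isSuppD_union U'.ι j T.ι hTsub hCU hC
    have horth : ∀ {M : DCoh.D Xbar}, CxOX.IsSuppD T.ι M → ∀ φ : M ⟶ G, φ = 0 := fun hM φ => by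
      obtain ⟨α, rfl⟩ := exists_factor T.ι hM φ
      rw [hΓ.eq_of_tgt α 0, zero_comp]
    have hh : h = 0 := orth_shift T.ι horth 1 hCT h
    obtain ⟨s, hs⟩ := Triangle.coyoneda_exact₃ _ hTr (𝟙 C) (by
      show 𝟙 C ≫ h = 0
      rw [hh, comp_zero])
    have hz : IsZero C := by
      rw [IsZero.iff_id_eq_zero, hs, eq_zero_of_isSuppD j hC s]
      exact zero_comp
    exact (Triangle.isZero₃_iff_isIso₁ _ hTr).1 hz

theorem isIso_unit_of_closed (W : Xbar.Opens) (hW : (W : Set Xbar)ᶜ ⊆ Set.range j.base)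
    [CxOX.HasRgammaZ W.ι] (adj : DCoh.restrictD j ⊣ DCoh.Rpush j) (G : DCoh.D Xbar) :
    IsIso (adj.unit.app ((CxOX.RgammaZ W.ι).obj G)) := by
  haveI := hasRpush_scheme W.ι
  let T := (CxOX.RgammaZ W.ι).obj G
  have hT := isSuppD_RgammaZ W.ι G
  obtain ⟨C, g, h, hTr, hC⟩ := exists_unit_triangle j adj T
  have hR : CxOX.IsSuppD W.ι ((DCoh.Rpush j).obj ((DCoh.restrictD j).obj T)) := by
    refine isSuppD_rpush j W fun i x hx hxW => ?_
    rw [Scheme.Opens.range_ι] at hxW
    obtain ⟨e⟩ := nonempty_hd_restrictD j T i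
    have hns : ¬ Subsingleton ((DCoh.HD T i).presheaf.stalk (j.base x)) := by
      intro hs
      apply hx
      have e' := (DerSch.stalkFunctor X x).mapIso e
      haveI : Subsingleton (((Scheme.Modules.restrictFunctor j).obj (DCoh.HD T i)).presheaf.stalk x) :=
        @Equiv.subsingleton _ _
          (((Scheme.Modules.restrictStalkNatIso j x).app (DCoh.HD T i)).addCommGroupIsoToAddEquiv).toEquiv hs
      exact @Equiv.subsingleton _ _ e'.toLinearEquiv.toEquiv (inferInstanceAs
        (Subsingleton (((Scheme.Modules.restrictFunctor j).obj (DCoh.HD T i)).presheaf.stalk x)))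
    exact hT i hns (by rw [Scheme.Opens.range_ι]; exact hxW)
  have hCW : CxOX.IsSuppD W.ι C := by
    refine (isSuppD_iff W.ι C).2 ?_
    refine Triangle.isZero₂_of_isZero₁₃ _ (rot_of_distTriang _
      ((DCoh.restrictD W.ι).map_distinguished _ hTr)) ?_ ?_
    · exact (isSuppD_iff _ _).1 hR
    · exact Functor.map_isZero _ ((isSuppD_iff _ _).1 hT)
  haveI : IsOpenImmersion (𝟙 Xbar) := inferInstance
  have hz : IsZero C := isZero_of_isSuppD (𝟙 Xbar) (by simp) (isSuppD_union W.ι j (𝟙 Xbar) (by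
    intro x _
    by_cases hx : x ∈ (W : Set Xbar)
    · exact Or.inl (by rw [Scheme.Opens.range_ι]; exact hx)
    · exact Or.inr (hW hx)) hCW hC)
  exact (Triangle.isZero₃_iff_isIso₁ _ hTr).1 hz

/-- Sections with supports commute with coproducts of objects with quasi-coherent cohomology. -/
theorem isIso_sigmaDesc {U : Scheme.{u}} (j : U ⟶ X) [IsOpenImmersion j] [QuasiCompact j]
    [CxOX.HasRgammaZ j] {ι : Type u} (E : ι → DCoh.D X) (hE : ∀ i, DCoh.IsQCohD (E i)) [HasCoproduct E]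
    [HasCoproduct (fun i => (CxOX.RgammaZ j).obj (E i))] :
    IsIso (Sigma.desc (fun i => (CxOX.RgammaZ j).map (Sigma.ι E i))) := by
  haveI := hasRpush_scheme j
  haveI : HasColimitsOfShape (Discrete ι) (DCoh.D X) := TriCat.hasColimitsOfShape_derivedCategory
  haveI : HasColimitsOfShape (Discrete ι) (DCoh.D U) := TriCat.hasColimitsOfShape_derivedCategory
  choose g h hT using fun i => exists_triangle j (E i)
  let L := fun i => (DCoh.restrictD j).obj (E i)
  let R := fun i => (DCoh.Rpush j).obj (L i)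
  let f₁ : (∐ fun i => (CxOX.RgammaZ j).obj (E i)) ⟶ ∐ E :=
    Limits.Sigma.map fun i => (CxOX.RgammaZToId j).app (E i)
  let S : Triangle (DCoh.D X) := Triangle.mk f₁ (Limits.Sigma.map g)
    (Sigma.desc fun i => h i ≫ (Sigma.ι (fun i => (CxOX.RgammaZ j).obj (E i)) i)⟦(1 : ℤ)⟧')
  have hS : S ∈ distTriang (DCoh.D X) := by
    refine TriCat.distinguished_of_isSum _ hT S (fun i =>
      { hom₁ := Sigma.ι (fun i => (CxOX.RgammaZ j).obj (E i)) i
        hom₂ := Sigma.ι E i
        hom₃ := Sigma.ι R i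
        comm₁ := (Limits.Sigma.ι_map (fun i => (CxOX.RgammaZToId j).app (E i)) i).symm
        comm₂ := (Limits.Sigma.ι_map g i).symm
        comm₃ := (Sigma.ι_desc (fun i => h i ≫ (Sigma.ι (fun i => (CxOX.RgammaZ j).obj (E i)) i)⟦(1 : ℤ)⟧') i).symm })
      (TriCat.isSum_sigma _) (TriCat.isSum_sigma _) (TriCat.isSum_sigma _)
  let c := Sigma.desc (fun i => (DCoh.Rpush j).map (Sigma.ι L i))
  haveI : IsIso c := isIso_sigmaDesc_rpush j L fun i => isQCohD_restrictD j (hE i)
  obtain ⟨adj⟩ := PerfGen7.nonempty_restrictD_rpush_adj j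
  have hA : CxOX.IsSuppD j (∐ fun i => (CxOX.RgammaZ j).obj (E i)) := by
    refine (isSuppD_iff j _).2 ?_
    rw [IsZero.iff_id_eq_zero]
    apply (adj.homEquiv _ _).injective
    exact Sigma.hom_ext _ _ fun i => (eq_zero_of_isSuppD j (isSuppD_RgammaZ j _) _).trans
      (eq_zero_of_isSuppD j (isSuppD_RgammaZ j _) _).symm
  refine (factors_isIso_of_orth j hA f₁ S.mor₂ S.mor₃ hS fun hM φ => ?_).2 _ ?_
  · exact (cancel_mono c).1 ((eq_zero_of_isSuppD j hM _).trans zero_comp.symm)
  · refine Sigma.hom_ext _ _ fun i => ?_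
    rw [Sigma.ι_desc_assoc, Limits.Sigma.ι_map]
    exact (CxOX.RgammaZToId j).naturality (Sigma.ι E i)

end Groth.Agent.SuppD7
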