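import Groth.Agent.SuppD7.Triangle
import Groth.Agent.KFlatLib.Scheme.SupportPush

/-!
# Derived sections with supports as a right adjoint of the inclusion of supported objects
-/

set_option autoImplicit false
set_option linter.style.haveILetI false
set_option backward.isDefEq.respectTransparency false
set_option backward.isDefEq.respectTransparency.types false

universe u

open CategoryTheory CategoryTheory.Limits AlgebraicGeometry TopologicalSpace Pretriangulated ZeroObject

attribute [local instance] HasDerivedCategory.standard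

noncomputable section

namespace Groth.Agent.SuppD7

open Groth.Agent.KFlatLib

variable {U X : Scheme.{u}} (j : U ⟶ X) [IsOpenImmersion j]

/-- Cohomology sheaves of a restriction. -/
lemma nonempty_hd_restrictD (K : DCoh.D X) (i : ℤ) :
    Nonempty (DCoh.HD ((DCoh.restrictD j).obj K) i ≅
      (Scheme.Modules.restrictFunctor j).obj (DCoh.HD K i)) := by
  let R := Scheme.Modules.restrictFunctor j
  let C := DerivedCategory.Q.objPreimage K
  let e : DerivedCategory.Q.obj C ≅ K := DerivedCategory.Q.objObjPreimageIso K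
  exact ⟨(DerivedCategory.homologyFunctor _ i).mapIso
      ((DCoh.restrictD j).mapIso e.symm ≪≫ R.mapDerivedCategoryFactors.app C) ≪≫
    (DerivedCategory.homologyFunctorFactors _ i).app _ ≪≫ (C.sc i).mapHomologyIso R ≪≫
    R.mapIso (((DerivedCategory.homologyFunctorFactors _ i).app C).symm ≪≫
      (DerivedCategory.homologyFunctor _ i).mapIso e)⟩

lemma isZero_iff_hd {V : Scheme.{u}} (K : DCoh.D V) : IsZero K ↔ ∀ i, IsZero (DCoh.HD K i) := by
  refine ⟨fun h i => Functor.map_isZero _ h, fun h => ?_⟩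
  let z : K ⟶ (0 : DCoh.D V) := 0
  haveI : IsIso z := (DerivedCategory.isIso_iff _ z).2 fun i =>
    ⟨0, (h i).eq_of_src _ _, ((Functor.map_isZero (DerivedCategory.homologyFunctor V.Modules i) (isZero_zero _))).eq_of_src _ _⟩
  exact (isZero_zero _).of_iso (asIso z)

lemma isZero_restrict_iff (M : X.Modules) :
    IsZero ((Scheme.Modules.restrictFunctor j).obj M) ↔ CohB1.support M ⊆ (Set.range j.base)ᶜ := by
  constructor
  · intro h x hx hxj
    obtain ⟨u, rfl⟩ := hxj
    have hz := Functor.map_isZero (Scheme.Modules.toPresheaf U ⋙ TopCat.Presheaf.stalkFunctor Ab.{u} u) h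
    exact hx (AddCommGrpCat.subsingleton_of_isZero
      (hz.of_iso ((Scheme.Modules.restrictStalkNatIso j u).app M).symm))
  · intro h
    refine isZero_of_stalk _ fun u => ?_
    haveI hs : Subsingleton (M.presheaf.stalk (j.base u)) := not_not.1 fun hn => h hn ⟨u, rfl⟩
    haveI : Subsingleton (((Scheme.Modules.restrictFunctor j).obj M).presheaf.stalk u) :=
      @Equiv.subsingleton _ _ (((Scheme.Modules.restrictStalkNatIso j u).app M).addCommGroupIsoToAddEquiv).toEquiv hs
    exact @ModuleCat.isZero_of_subsingleton _ _ _ (inferInstanceAs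
      (Subsingleton (((Scheme.Modules.restrictFunctor j).obj M).presheaf.stalk u)))

theorem isSuppD_iff (K : DCoh.D X) : CxOX.IsSuppD j K ↔ IsZero ((DCoh.restrictD j).obj K) := by
  rw [isZero_iff_hd]
  refine forall_congr' fun i => ?_
  rw [← isZero_restrict_iff]
  obtain ⟨e⟩ := nonempty_hd_restrictD j K i
  exact ⟨fun h => h.of_iso e, fun h => h.of_iso e.symm⟩

lemma isSuppD_of_iso {K L : DCoh.D X} (e : K ≅ L) (h : CxOX.IsSuppD j K) : CxOX.IsSuppD j L :=
  (isSuppD_iff j L).2 (((isSuppD_iff j K).1 h).of_iso ((DCoh.restrictD j).mapIso e.symm))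

lemma isSuppD_shift {K : DCoh.D X} (h : CxOX.IsSuppD j K) (n : ℤ) : CxOX.IsSuppD j (K⟦n⟧) := by
  haveI : (DCoh.restrictD j).Additive := inferInstance
  refine (isSuppD_iff j _).2 ?_
  exact (Functor.map_isZero (shiftFunctor (DCoh.D U) n) ((isSuppD_iff j K).1 h)).of_iso
    (((DCoh.restrictD j).commShiftIso n).app K)

section

variable [DCoh.HasRpush j]

/-- Supported objects have no maps to direct images from the open. -/
theorem eq_zero_of_isSuppD {M : DCoh.D X} (hM : CxOX.IsSuppD j M) {L : DCoh.D U}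
    (φ : M ⟶ (DCoh.Rpush j).obj L) : φ = 0 := by
  obtain ⟨adj⟩ := PerfGen7.nonempty_restrictD_rpush_adj j
  apply (adj.homEquiv M L).symm.injective
  exact ((isSuppD_iff j M).1 hM).eq_of_src _ _

theorem eq_zero_of_isSuppD_of_shift {M : DCoh.D X} (hM : CxOX.IsSuppD j M) {L : DCoh.D U} (n : ℤ)
    (φ : M ⟶ ((DCoh.Rpush j).obj L)⟦n⟧) : φ = 0 := by
  apply (shiftFunctor (DCoh.D X) (-n)).map_injective
  rw [Functor.map_zero, ← cancel_mono ((shiftFunctorCompIsoId (DCoh.D X) n (-n) (add_neg_cancel n)).hom.app _),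
    zero_comp]
  exact eq_zero_of_isSuppD j (isSuppD_shift j hM (-n)) _

omit [DCoh.HasRpush j] in
/-- An object orthogonal to all supported objects stays so after shifting. -/
theorem orth_shift {C : DCoh.D X} (hC : ∀ {M : DCoh.D X}, CxOX.IsSuppD j M → ∀ φ : M ⟶ C, φ = 0)
    (n : ℤ) {M : DCoh.D X} (hM : CxOX.IsSuppD j M) (φ : M ⟶ C⟦n⟧) : φ = 0 := by
  apply (shiftFunctor (DCoh.D X) (-n)).map_injective
  rw [Functor.map_zero, ← cancel_mono ((shiftFunctorCompIsoId (DCoh.D X) n (-n) (add_neg_cancel n)).hom.app _),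
    zero_comp]
  exact hC (isSuppD_shift j hM (-n)) _

omit [DCoh.HasRpush j] in
/-- A triangle whose third object is orthogonal detects maps from supported objects. -/
theorem bijective_of_orth {A K C : DCoh.D X} (f : A ⟶ K) (g : K ⟶ C)
    (h : C ⟶ A⟦(1 : ℤ)⟧) (hT : Triangle.mk f g h ∈ distTriang (DCoh.D X))
    (hC : ∀ {M : DCoh.D X}, CxOX.IsSuppD j M → ∀ φ : M ⟶ C, φ = 0)
    {M : DCoh.D X} (hM : CxOX.IsSuppD j M) : Function.Bijective (fun φ : M ⟶ A => φ ≫ f) := by
  constructor
  · intro φ φ' e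
    have e' : (φ - φ') ≫ f = 0 := by rw [Preadditive.sub_comp, sub_eq_zero]; exact e
    obtain ⟨ψ, hψ⟩ := Triangle.coyoneda_exact₂ _ (inv_rot_of_distTriang _ hT) (φ - φ') e'
    rw [orth_shift j hC (-1) hM ψ] at hψ
    exact sub_eq_zero.1 (hψ.trans zero_comp)
  · intro φ
    obtain ⟨ψ, hψ⟩ := Triangle.coyoneda_exact₂ _ hT φ (hC hM _)
    exact ⟨ψ, hψ.symm⟩

/-- A triangle whose third object is a direct image from the open detects maps from supported objects. -/
theorem bijective_of_triangle {A K : DCoh.D X} {L : DCoh.D U} (f : A ⟶ K) (g : K ⟶ (DCoh.Rpush j).obj L)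
    (h : (DCoh.Rpush j).obj L ⟶ A⟦(1 : ℤ)⟧) (hT : Triangle.mk f g h ∈ distTriang (DCoh.D X))
    {M : DCoh.D X} (hM : CxOX.IsSuppD j M) : Function.Bijective (fun φ : M ⟶ A => φ ≫ f) :=
  bijective_of_orth j f g h hT (fun hM φ => eq_zero_of_isSuppD j hM φ) hM

/-- A supported object over which the complement is invisible computes sections with supports. -/
theorem isSuppD_RgammaZ [CxOX.HasRgammaZ j] (K : DCoh.D X) : CxOX.IsSuppD j ((CxOX.RgammaZ j).obj K) := by
  obtain ⟨I, hI, hinj, ⟨eK⟩⟩ := exists_rep K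
  haveI := hI
  let c := ComplexShape.up ℤ
  let R := Scheme.Modules.restrictFunctor j
  let G := ((DCoh.gammaZ j).mapHomologicalComplex c).obj I
  haveI := isIso_unit_of_kInjective (CxOX.gammaZKh j) I
  let e : DerivedCategory.Q.obj G ≅ (CxOX.RgammaZ j).obj K :=
    ((DerivedCategory.quotientCompQhIso X.Modules).app G).symm ≪≫
      DerivedCategory.Qh.mapIso (((DCoh.gammaZ j).mapHomotopyCategoryFactors c).app I).symm ≪≫
      asIso (((CxOX.gammaZKh j).totalRightDerivedUnit DerivedCategory.Qh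
        (HomotopyCategory.quasiIso X.Modules c)).app ((HomotopyCategory.quotient X.Modules c).obj I)) ≪≫
      (CxOX.RgammaZ j).mapIso ((DerivedCategory.quotientCompQhIso X.Modules).app I ≪≫ eK)
  refine isSuppD_of_iso j e ((isSuppD_iff j _).2 ?_)
  refine IsZero.of_iso ?_ (R.mapDerivedCategoryFactors.app G)
  refine Functor.map_isZero DerivedCategory.Q ((IsZero.iff_id_eq_zero _).2 ?_)
  refine HomologicalComplex.hom_ext _ _ fun n => IsZero.eq_of_src ?_ _ _
  let u := (Scheme.Modules.restrictAdjunction j).unit.app (I.X n)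
  haveI : IsIso (R.map u) :=
    IsIso.of_isIso_fac_right ((Scheme.Modules.restrictAdjunction j).left_triangle_components (I.X n))
  haveI : Mono (R.map (kernel.ι u)) := inferInstance
  refine IsZero.of_mono_eq_zero (R.map (kernel.ι u)) ?_
  rw [← cancel_mono (R.map u), zero_comp, ← Functor.map_comp, kernel.condition, Functor.map_zero]

variable [CxOX.HasRgammaZ j]

theorem bijective_RgammaZToId (K : DCoh.D X) {M : DCoh.D X} (hM : CxOX.IsSuppD j M) :
    Function.Bijective (fun φ : M ⟶ (CxOX.RgammaZ j).obj K => φ ≫ (CxOX.RgammaZToId j).app K) := by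
  obtain ⟨g, h, hT⟩ := exists_triangle j K
  exact bijective_of_triangle j _ g h hT hM

/-- Maps from supported objects factor through sections with supports. -/
theorem exists_factor {A K : DCoh.D X} (hA : CxOX.IsSuppD j A) (f : A ⟶ K) :
    ∃ α : A ⟶ (CxOX.RgammaZ j).obj K, α ≫ (CxOX.RgammaZToId j).app K = f :=
  (bijective_RgammaZToId j K hA).2 f

/-- A universal supported object is sections with supports. -/
theorem isIso_factor {A K : DCoh.D X} (hA : CxOX.IsSuppD j A) (f : A ⟶ K)
    (hf : ∀ {M : DCoh.D X}, CxOX.IsSuppD j M → Function.Bijective (fun φ : M ⟶ A => φ ≫ f))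
    (α : A ⟶ (CxOX.RgammaZ j).obj K) (hα : α ≫ (CxOX.RgammaZToId j).app K = f) : IsIso α := by
  have hΓ := isSuppD_RgammaZ j K
  obtain ⟨β, hβ⟩ := (hf hΓ).2 ((CxOX.RgammaZToId j).app K)
  refine ⟨β, (hf hA).1 ?_, (bijective_RgammaZToId j K hΓ).1 ?_⟩
  · show (α ≫ β) ≫ f = 𝟙 A ≫ f
    rw [Category.assoc, Category.id_comp]
    exact (congrArg (α ≫ ·) hβ).trans hα
  · show (β ≫ α) ≫ (CxOX.RgammaZToId j).app K = 𝟙 _ ≫ (CxOX.RgammaZToId j).app K
    rw [Category.assoc, Category.id_comp, hα]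
    exact hβ

/-- An orthogonal object is the direct image of its restriction. -/
theorem nonempty_iso_of_orth {C : DCoh.D X}
    (hC : ∀ {M : DCoh.D X}, CxOX.IsSuppD j M → ∀ φ : M ⟶ C, φ = 0) :
    Nonempty (C ≅ (DCoh.Rpush j).obj ((DCoh.restrictD j).obj C)) := by
  obtain ⟨g, h, hT⟩ := exists_triangle j C
  have hz : IsZero ((CxOX.RgammaZ j).obj C) := by
    rw [IsZero.iff_id_eq_zero]
    refine (bijective_RgammaZToId j C (isSuppD_RgammaZ j C)).1 ?_
    exact (hC (isSuppD_RgammaZ j C) _).trans (hC (isSuppD_RgammaZ j C) _).symm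
  haveI : IsIso g := (Triangle.isZero₁_iff_isIso₂ _ hT).1 hz
  exact ⟨asIso g⟩

/-- A factorisation criterion with an orthogonal third object. -/
theorem factors_isIso_of_orth {A K C : DCoh.D X} (hA : CxOX.IsSuppD j A) (f : A ⟶ K)
    (g : K ⟶ C) (h : C ⟶ A⟦(1 : ℤ)⟧) (hT : Triangle.mk f g h ∈ distTriang (DCoh.D X))
    (hC : ∀ {M : DCoh.D X}, CxOX.IsSuppD j M → ∀ φ : M ⟶ C, φ = 0) :
    (∃ α : A ⟶ (CxOX.RgammaZ j).obj K, α ≫ (CxOX.RgammaZToId j).app K = f) ∧
      ∀ α : A ⟶ (CxOX.RgammaZ j).obj K, α ≫ (CxOX.RgammaZToId j).app K = f → IsIso α :=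
  ⟨exists_factor j hA f, fun α hα => isIso_factor j hA f
    (fun hM => bijective_of_orth j f g h hT hC hM) α hα⟩

/-- The form of the factorisation statements: existence and invertibility of every factorisation. -/
theorem factors_isIso {A K : DCoh.D X} {L : DCoh.D U} (hA : CxOX.IsSuppD j A) (f : A ⟶ K)
    (g : K ⟶ (DCoh.Rpush j).obj L) (h : (DCoh.Rpush j).obj L ⟶ A⟦(1 : ℤ)⟧)
    (hT : Triangle.mk f g h ∈ distTriang (DCoh.D X)) :
    (∃ α : A ⟶ (CxOX.RgammaZ j).obj K, α ≫ (CxOX.RgammaZToId j).app K = f) ∧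
      ∀ α : A ⟶ (CxOX.RgammaZ j).obj K, α ≫ (CxOX.RgammaZToId j).app K = f → IsIso α :=
  ⟨exists_factor j hA f, fun α hα => isIso_factor j hA f
    (fun hM => bijective_of_triangle j f g h hT hM) α hα⟩

end

end Groth.Agent.SuppD7
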