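import Groth.Agent.PerfGen7.TensorTri

/-!
# The derived tensor product of a map, completed to a triangle
-/

set_option autoImplicit false
set_option linter.style.haveILetI false
set_option backward.isDefEq.respectTransparency false

universe u

open CategoryTheory CategoryTheory.Limits AlgebraicGeometry Pretriangulated

attribute [local instance] HasDerivedCategory.standard

noncomputable section

namespace Groth.Agent.SuppD7

open Groth.Agent.KFlatLib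

variable {X : Scheme.{u}}

/-- The second map of a triangle stays the first map of a triangle after tensoring. -/
theorem exists_ltensor_map_triangle (K : CochainComplex X.Modules ℤ) [DCoh.HasLTensorCx K]
    (T : Triangle (DCoh.D X)) (hT : T ∈ distTriang _) :
    ∃ (C : DCoh.D X) (_ : C ≅ ((DCoh.LTensorCx K).obj T.obj₁)⟦(1 : ℤ)⟧)
      (g : (DCoh.LTensorCx K).obj T.obj₃ ⟶ C) (h : C ⟶ ((DCoh.LTensorCx K).obj T.obj₂)⟦(1 : ℤ)⟧),
      Triangle.mk ((DCoh.LTensorCx K).map T.mor₂) g h ∈ distTriang (DCoh.D X) := by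
  obtain ⟨A, B, φ, ⟨e⟩⟩ := (DerivedCategory.mem_distTriang_iff T).1 hT
  let φ' := (kRes X).map φ
  let T₁ := DerivedCategory.Q.mapTriangle.obj (CochainComplex.mappingCone.triangle φ')
  have hT₁ : T₁ ∈ distTriang (DCoh.D X) :=
    (DerivedCategory.mem_distTriang_iff _).2 ⟨_, _, φ', ⟨Iso.refl _⟩⟩
  have hT₀ : DerivedCategory.Q.mapTriangle.obj (CochainComplex.mappingCone.triangle φ) ∈
      distTriang (DCoh.D X) :=
    (DerivedCategory.mem_distTriang_iff _).2 ⟨_, _, φ, ⟨Iso.refl _⟩⟩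
  let e' : T₁ ≅ T := isoTriangleOfIso₁₂ T₁
    (DerivedCategory.Q.mapTriangle.obj (CochainComplex.mappingCone.triangle φ)) hT₁ hT₀
    ((resQIso X).app A) ((resQIso X).app B) ((resQIso X).hom.naturality φ) ≪≫ e.symm
  have hA : DCoh.IsKFlat ((kRes X).obj A) := isKFlat_kRes A
  have hB : DCoh.IsKFlat ((kRes X).obj B) := isKFlat_kRes B
  have hC : DCoh.IsKFlat (CochainComplex.mappingCone φ') := kFlat_cone (T := DCoh.tensorBi) φ' hA hB
  let S := (coneSeq φ').map ((DCoh.tensorBi (X := X)).map₂CochainComplex.flip.obj K)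
  have hS : S.ShortExact :=
    shortExact₁_of_splitting K (coneSeq φ') fun n => ⟨coneSeqSplitting φ' n⟩
  let Lt := DCoh.LTensorCx K
  let T' := DerivedCategory.triangleOfSES hS
  let e₁ : T'.obj₁ ≅ Lt.obj T.obj₂ := (ltensorCxIso K hB).symm ≪≫ Lt.mapIso (Triangle.π₂.mapIso e')
  let e₂ : T'.obj₂ ≅ Lt.obj T.obj₃ := (ltensorCxIso K hC).symm ≪≫ Lt.mapIso (Triangle.π₃.mapIso e')
  let e₃ : T'.obj₃ ≅ (Lt.obj T.obj₁)⟦(1 : ℤ)⟧ :=
    DerivedCategory.Q.mapIso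
        (CochainComplex.mapBifunctorShift₁Iso ((kRes X).obj A) K (DCoh.tensorBi (X := X)) 1) ≪≫
      (DerivedCategory.Q.commShiftIso (1 : ℤ)).app _ ≪≫
      (shiftFunctor (DCoh.D X) (1 : ℤ)).mapIso
        ((ltensorCxIso K hA).symm ≪≫ Lt.mapIso (Triangle.π₁.mapIso e'))
  have comm : T'.mor₁ ≫ e₂.hom = e₁.hom ≫ Lt.map T.mor₂ := by
    have hw : Lt.map (DerivedCategory.Q.map (coneSeq φ').f) ≫ (ltensorCxIso K hC).hom =
        (ltensorCxIso K hB).hom ≫ DerivedCategory.Q.map S.f :=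
      ((DCoh.tensorCxQ K).totalLeftDerivedCounit DerivedCategory.Q (qisX X)).naturality (coneSeq φ').f
    have he : DerivedCategory.Q.map (coneSeq φ').f ≫ e'.hom.hom₃ = e'.hom.hom₂ ≫ T.mor₂ := e'.hom.comm₂
    show DerivedCategory.Q.map S.f ≫ (ltensorCxIso K hC).inv ≫ Lt.map e'.hom.hom₃ =
      ((ltensorCxIso K hB).inv ≫ Lt.map e'.hom.hom₂) ≫ Lt.map T.mor₂
    rw [Category.assoc, ← Functor.map_comp, ← he, Functor.map_comp, Iso.eq_inv_comp, ← reassoc_of% hw,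
      Iso.hom_inv_id_assoc]
  refine ⟨T'.obj₃, e₃, e₂.inv ≫ T'.mor₂, T'.mor₃ ≫ e₁.hom⟦(1 : ℤ)⟧',
    isomorphic_distinguished _ (DerivedCategory.triangleOfSES_distinguished hS) _ ?_⟩
  refine (Triangle.isoMk T' (Triangle.mk (Lt.map T.mor₂) (e₂.inv ≫ T'.mor₂) (T'.mor₃ ≫ e₁.hom⟦(1 : ℤ)⟧')) e₁ e₂ (Iso.refl _) comm ?_ ?_).symm
  · show T'.mor₂ ≫ 𝟙 _ = e₂.hom ≫ e₂.inv ≫ T'.mor₂
    rw [Category.comp_id, Iso.hom_inv_id_assoc]
  · show T'.mor₃ ≫ e₁.hom⟦(1 : ℤ)⟧' = 𝟙 _ ≫ T'.mor₃ ≫ e₁.hom⟦(1 : ℤ)⟧'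
    rw [Category.id_comp]

end Groth.Agent.SuppD7
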