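import Groth.Agent.SuppD7.Basic
import Groth.Agent.SuppD7.Tensor
import Groth.Agent.KFlatLib.Scheme.RpushCoprodQCoh
import Groth.Agent.KFlatLib.Scheme.RpushRestrict
import Groth.Agent.KFlatLib.Scheme.RpushTriangle
import Groth.Agent.KFlatLib.Scheme.ProjFormula
import Groth.Agent.KFlatLib.Scheme.PullTensorCx
import Groth.Agent.KFlatLib.Perfect.Betti
import Groth.Agent.PerfGen7.HasRHom
import Groth.Agent.TriCat.Sums
import Groth.Agent.DerBC7.Main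
import Groth.Agent.DerBC7.LpullTri
import Groth.Agent.S0922
import Mathlib.AlgebraicGeometry.Restrict

/-!
# Sections with supports and the standard operations
-/

set_option autoImplicit false
set_option linter.style.haveILetI false
set_option backward.isDefEq.respectTransparency false
set_option backward.isDefEq.respectTransparency.types false

universe u

open CategoryTheory CategoryTheory.Limits AlgebraicGeometry TopologicalSpace Pretriangulated ZeroObject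

attribute [local instance] HasDerivedCategory.standard

noncomputable section

namespace Groth.Agent.SuppD7

open Groth.Agent.KFlatLib

lemma additive_rpush {X Y : Scheme.{u}} (f : X ⟶ Y) [DCoh.HasRpush f] : (DCoh.Rpush f).Additive :=
  (exists_rightDerived_triangle (Scheme.Modules.pushforward f) _
    (contractible_distinguished (DerivedCategory.Q.obj (0 : CochainComplex X.Modules ℤ)))).1

lemma isZero_rpush {X Y : Scheme.{u}} (f : X ⟶ Y) [DCoh.HasRpush f] {K : DCoh.D X} (h : IsZero K) :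
    IsZero ((DCoh.Rpush f).obj K) :=
  haveI := additive_rpush f
  Functor.map_isZero _ h

lemma isZero_lpull {X Y : Scheme.{u}} (f : X ⟶ Y) [DCoh.HasLpull f] {K : DCoh.D Y} (h : IsZero K) :
    IsZero ((DCoh.Lpull f).obj K) := by
  haveI := hasRpush_scheme f
  obtain ⟨adj⟩ := nonempty_lpull_rpush_adj f
  rw [IsZero.iff_id_eq_zero]
  apply (adj.homEquiv _ _).injective
  exact h.eq_of_src _ _

lemma isZero_ltensor {X : Scheme.{u}} (E : CochainComplex X.Modules ℤ) [DCoh.HasLTensorCx E] {K : DCoh.D X}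
    (h : IsZero K) : IsZero ((DCoh.LTensorCx E).obj K) := by
  haveI := PerfGen7.hasRSheafHom E
  rw [IsZero.iff_id_eq_zero]
  apply ((DCoh.RSheafHomAdj E).homEquiv _ _).injective
  exact h.eq_of_src _ _

variable {X Y : Scheme.{u}} (f : X ⟶ Y) (U : Y.Opens) [CxOX.HasRgammaZ U.ι]
  [CxOX.HasRgammaZ (f ⁻¹ᵁ U).ι]

/-- Direct images commute with sections with supports. -/
theorem rpush_factors [DCoh.HasRpush f] (K : DCoh.D X) :
    (∃ α : (DCoh.Rpush f).obj ((CxOX.RgammaZ (f ⁻¹ᵁ U).ι).obj K) ⟶ (CxOX.RgammaZ U.ι).obj ((DCoh.Rpush f).obj K),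
        α ≫ (CxOX.RgammaZToId U.ι).app ((DCoh.Rpush f).obj K) =
          (DCoh.Rpush f).map ((CxOX.RgammaZToId (f ⁻¹ᵁ U).ι).app K)) ∧
    ∀ α : (DCoh.Rpush f).obj ((CxOX.RgammaZ (f ⁻¹ᵁ U).ι).obj K) ⟶ (CxOX.RgammaZ U.ι).obj ((DCoh.Rpush f).obj K),
        α ≫ (CxOX.RgammaZToId U.ι).app ((DCoh.Rpush f).obj K) =
          (DCoh.Rpush f).map ((CxOX.RgammaZToId (f ⁻¹ᵁ U).ι).app K) → IsIso α := by
  haveI := hasRpush_scheme U.ι
  haveI := hasRpush_scheme (f ⁻¹ᵁ U).ι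
  haveI := hasRpush_scheme (f ∣_ U)
  obtain ⟨g, h, hT⟩ := exists_triangle (f ⁻¹ᵁ U).ι K
  obtain ⟨c, hc⟩ := exists_rpush_triangle f _ hT
  obtain ⟨eR⟩ := nonempty_rpush_restrictD_iso f U
  refine factors_isIso_of_orth U.ι ((isSuppD_iff U.ι _).2 ?_) _ _ c hc fun hM φ => ?_
  · exact (isZero_rpush (f ∣_ U) ((isSuppD_iff _ _).1 (isSuppD_RgammaZ (f ⁻¹ᵁ U).ι K))).of_iso (eR.app _)
  · haveI := hasRpush_scheme ((f ⁻¹ᵁ U).ι ≫ f)
    haveI := hasRpush_scheme ((f ∣_ U) ≫ U.ι)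
    obtain ⟨e₁⟩ := Groth.Agent.S0922.result (f ⁻¹ᵁ U).ι f
    obtain ⟨e₂⟩ := Groth.Agent.S0922.result (f ∣_ U) U.ι
    let L := (DCoh.restrictD (f ⁻¹ᵁ U).ι).obj K
    have e₃ : (DCoh.Rpush ((f ∣_ U) ≫ U.ι)).obj L ≅ (DCoh.Rpush ((f ⁻¹ᵁ U).ι ≫ f)).obj L := by
      exact eqToIso (by congr 2; exact morphismRestrict_ι f U)
    let e : (DCoh.Rpush f).obj ((DCoh.Rpush (f ⁻¹ᵁ U).ι).obj L) ≅
        (DCoh.Rpush U.ι).obj ((DCoh.Rpush (f ∣_ U)).obj L) := e₁.app L ≪≫ e₃.symm ≪≫ (e₂.app L).symm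
    exact (cancel_mono e.hom).1 ((eq_zero_of_isSuppD U.ι hM _).trans zero_comp.symm)

/-- Flat pullback commutes with sections with supports. -/
theorem lpull_factors [QuasiCompact U.ι] [Flat f] [DCoh.HasLpull f] (K : DCoh.D Y) (hK : DCoh.IsQCohD K) :
    (∃ β : (DCoh.Lpull f).obj ((CxOX.RgammaZ U.ι).obj K) ⟶ (CxOX.RgammaZ (f ⁻¹ᵁ U).ι).obj ((DCoh.Lpull f).obj K),
        β ≫ (CxOX.RgammaZToId (f ⁻¹ᵁ U).ι).app ((DCoh.Lpull f).obj K) =
          (DCoh.Lpull f).map ((CxOX.RgammaZToId U.ι).app K)) ∧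
    ∀ β : (DCoh.Lpull f).obj ((CxOX.RgammaZ U.ι).obj K) ⟶ (CxOX.RgammaZ (f ⁻¹ᵁ U).ι).obj ((DCoh.Lpull f).obj K),
        β ≫ (CxOX.RgammaZToId (f ⁻¹ᵁ U).ι).app ((DCoh.Lpull f).obj K) =
          (DCoh.Lpull f).map ((CxOX.RgammaZToId U.ι).app K) → IsIso β := by
  let W := f ⁻¹ᵁ U
  haveI := hasRpush_scheme U.ι
  haveI := hasRpush_scheme W.ι
  haveI := hasRpush_scheme f
  haveI := hasRpush_scheme (f ∣_ U)
  haveI := hasLpull W.ι
  haveI := hasLpull U.ι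
  haveI := hasLpull (f ∣_ U)
  haveI := hasLpull (W.ι ≫ f)
  haveI := hasLpull ((f ∣_ U) ≫ U.ι)
  obtain ⟨g, h, hT⟩ := exists_triangle U.ι K
  obtain ⟨c, hc⟩ := DerBC7.exists_lpull_distinguished f _ hT
  refine factors_isIso_of_orth W.ι ((isSuppD_iff W.ι _).2 ?_) _ _ c hc fun hM φ => ?_
  · let T := (CxOX.RgammaZ U.ι).obj K
    obtain ⟨e₁⟩ := nonempty_lpull_comp (f := W.ι) (g := f)
    obtain ⟨e₂⟩ := nonempty_lpull_comp (f := f ∣_ U) (g := U.ι)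
    have e₃ : (DCoh.Lpull ((f ∣_ U) ≫ U.ι)).obj T ≅ (DCoh.Lpull (W.ι ≫ f)).obj T := by
      exact eqToIso (by congr 2; exact morphismRestrict_ι f U)
    have hz : IsZero ((DCoh.Lpull (f ∣_ U)).obj ((DCoh.Lpull U.ι).obj T)) :=
      isZero_lpull _ (((isSuppD_iff _ _).1 (isSuppD_RgammaZ U.ι K)).of_iso (rhoLpullIso U.ι T).symm)
    exact hz.of_iso (rhoLpullIso W.ι _ ≪≫ e₁.app T ≪≫ e₃.symm ≪≫ (e₂.app T).symm)
  · obtain ⟨adjg⟩ := nonempty_lpull_rpush_adj f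
    obtain ⟨adjg'⟩ := nonempty_lpull_rpush_adj (f ∣_ U)
    obtain ⟨e, he⟩ := DerBC7.exists_flat_baseChange_iso (isPullback_morphismRestrict f U) adjg adjg'
    haveI := he _ (isQCohD_restrictD U.ι hK)
    let β := DCoh.baseChangeApp adjg adjg' e ((DCoh.restrictD U.ι).obj K)
    exact (cancel_mono β).1 ((eq_zero_of_isSuppD W.ι hM _).trans zero_comp.symm)

/-- Tensoring commutes with sections with supports. -/
theorem ltensor_factors [QuasiCompact U.ι] (F : DCoh.D Y) (hF : DCoh.IsQCohD F)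
    (E : CochainComplex Y.Modules ℤ) (hE : DCoh.IsQCohD (DCoh.toD Y E)) [DCoh.HasLTensorCx E] :
    (∃ φ : (DCoh.LTensorCx E).obj ((CxOX.RgammaZ U.ι).obj F) ⟶ (CxOX.RgammaZ U.ι).obj ((DCoh.LTensorCx E).obj F),
        φ ≫ (CxOX.RgammaZToId U.ι).app ((DCoh.LTensorCx E).obj F) =
          (DCoh.LTensorCx E).map ((CxOX.RgammaZToId U.ι).app F)) ∧
    ∀ φ : (DCoh.LTensorCx E).obj ((CxOX.RgammaZ U.ι).obj F) ⟶ (CxOX.RgammaZ U.ι).obj ((DCoh.LTensorCx E).obj F),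
        φ ≫ (CxOX.RgammaZToId U.ι).app ((DCoh.LTensorCx E).obj F) =
          (DCoh.LTensorCx E).map ((CxOX.RgammaZToId U.ι).app F) → IsIso φ := by
  haveI := hasRpush_scheme U.ι
  haveI := hasLpull U.ι
  obtain ⟨g, h, hT⟩ := exists_triangle U.ι F
  let C := (DCoh.Rpush U.ι).obj ((DCoh.restrictD U.ι).obj F)
  obtain ⟨C', eC', g', h', hT'⟩ := exists_ltensor_map_triangle E _ (inv_rot_of_distTriang _ hT)
  refine factors_isIso_of_orth U.ι ((isSuppD_iff U.ι _).2 ?_) _ g' h' hT' fun hM φ => ?_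
  · let T := (CxOX.RgammaZ U.ι).obj F
    let P := (kRes Y).obj E
    haveI := hasLTensorCx P
    haveI := hasLTensorCx ((pullCx U.ι).obj P)
    haveI := isIso_Q_map _ ((flatCover Y).quasiIso_ψ E)
    obtain ⟨cP⟩ := nonempty_LTensorCx_congr_D (P := P) (E := E)
      (asIso (DerivedCategory.Q.map ((flatCover Y).ψ.app E)))
    obtain ⟨eT⟩ := nonempty_lpull_ltensor U.ι P (isKFlat_kRes E) T
    have hz : IsZero ((DCoh.LTensorCx ((pullCx U.ι).obj P)).obj ((DCoh.Lpull U.ι).obj T)) :=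
      isZero_ltensor _ (((isSuppD_iff _ _).1 (isSuppD_RgammaZ U.ι F)).of_iso (rhoLpullIso U.ι T).symm)
    exact hz.of_iso ((DCoh.restrictD U.ι).mapIso (cP.symm.app T) ≪≫ rhoLpullIso U.ι _ ≪≫ eT)
  · have horth : ∀ {M : DCoh.D Y}, CxOX.IsSuppD U.ι M → ∀ ψ : M ⟶ C⟦(-1 : ℤ)⟧, ψ = 0 :=
      fun hM ψ => orth_shift U.ι (fun hM ψ => eq_zero_of_isSuppD U.ι hM ψ) (-1) hM ψ
    obtain ⟨eD⟩ := nonempty_iso_of_orth U.ι horth
    let L := (DCoh.restrictD U.ι).obj (C⟦(-1 : ℤ)⟧)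
    have hL : DCoh.IsQCohD L :=
      isQCohD_restrictD U.ι (isQCohD_shift (isQCohD_rpush U.ι (isQCohD_restrictD U.ι hF)) (-1))
    obtain ⟨M', -, -, ⟨eM⟩⟩ := exists_kInjective_rep ((DCoh.Lpull U.ι).obj (DCoh.toD Y E))
    haveI := hasLTensorCx M'
    obtain ⟨eP⟩ := nonempty_projection_DQCoh U.ι L hL E hE M' ⟨eM.symm⟩
    refine (cancel_mono (eC' ≪≫ (shiftFunctor (DCoh.D Y) (1 : ℤ)).mapIso
      ((DCoh.LTensorCx E).mapIso eD ≪≫ eP)).hom).1 ?_
    rw [zero_comp]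
    exact eq_zero_of_isSuppD_of_shift U.ι hM 1 _

end Groth.Agent.SuppD7
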