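import Groth.Agent.H1LCZ.QCoh
import Groth.Agent.KFlatLib.Scheme.RestrictHom
import Groth.Agent.KFlatLib.Scheme.RpushQCoh
import Groth.Agent.KFlatLib.Scheme.AffinePush
import Groth.Agent.KFlatLib.Scheme.MVPush
import Groth.Agent.KFlatLib.Scheme.ExtZero
import Groth.Agent.PerfGen7.RestrictAdj
import Groth.Prelude.Def_CxOX
import Mathlib.Algebra.Homology.DerivedCategory.ShortExact

/-!
# The triangle of derived sections with supports
-/

set_option autoImplicit false
set_option linter.style.haveILetI false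
set_option backward.isDefEq.respectTransparency false
set_option backward.isDefEq.respectTransparency.types false
set_option maxHeartbeats 1000000

universe u

open CategoryTheory CategoryTheory.Limits AlgebraicGeometry TopologicalSpace Pretriangulated

attribute [local instance] HasDerivedCategory.standard

noncomputable section

namespace Groth.Agent.SuppD7

open Groth.Agent.KFlatLib

/-- A derived functor is computed on K-injective complexes. -/
lemma isIso_unit_of_kInjective {X : Scheme.{u}} {D : Type*} [Category D]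
    (F : HomotopyCategory X.Modules (ComplexShape.up ℤ) ⥤ D)
    [F.HasRightDerivedFunctor (HomotopyCategory.quasiIso X.Modules (ComplexShape.up ℤ))]
    (I : CochainComplex X.Modules ℤ) [I.IsKInjective] :
    IsIso ((F.totalRightDerivedUnit DerivedCategory.Qh
      (HomotopyCategory.quasiIso X.Modules (ComplexShape.up ℤ))).app
        ((HomotopyCategory.quotient X.Modules (ComplexShape.up ℤ)).obj I)) := by
  haveI := TriCat.qh_isLeftAdjoint_of_exists_resolution (A := X.Modules) exists_kInjective_res
  let adjQ := Adjunction.ofIsLeftAdjoint (DerivedCategory.Qh (C := X.Modules))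
  let ρ := (DerivedCategory.Qh (C := X.Modules)).rightAdjoint
  let W := HomotopyCategory.quasiIso X.Modules (ComplexShape.up ℤ)
  haveI : (ρ ⋙ F).IsRightDerivedFunctor (Functor.whiskerRight adjQ.unit F) W :=
    TriCat.isRightDerivedFunctor_of_adjunction adjQ W F
  let α := F.totalRightDerivedUnit DerivedCategory.Qh W
  let e : ρ ⋙ F ≅ F.totalRightDerived DerivedCategory.Qh W :=
    Functor.rightDerivedUnique _ _ (Functor.whiskerRight adjQ.unit F) α W
  let qI := (HomotopyCategory.quotient X.Modules (ComplexShape.up ℤ)).obj I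
  haveI : IsIso (adjQ.unit.app qI) := TriCat.isIso_unit_of_isKInjective adjQ I
  have : α.app qI = F.map (adjQ.unit.app qI) ≫ e.hom.app (DerivedCategory.Qh.obj qI) :=
    ((Functor.rightDerivedNatTrans_app (ρ ⋙ F) (F.totalRightDerived DerivedCategory.Qh W)
      (Functor.whiskerRight adjQ.unit F) α W (𝟙 _) qI).trans
      (Category.id_comp _)).symm
  change IsIso (α.app qI)
  rw [this]
  infer_instance

variable {U X : Scheme.{u}} (j : U ⟶ X) [IsOpenImmersion j]

/-- Termwise inclusion of sections with supports. -/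
def gammaf (I : CochainComplex X.Modules ℤ) :
    ((DCoh.gammaZ j).mapHomologicalComplex (ComplexShape.up ℤ)).obj I ⟶ I :=
  (NatTrans.mapHomologicalComplex (CxOX.gammaZι j) (ComplexShape.up ℤ)).app I ≫
    (Functor.mapHomologicalComplexIdIso X.Modules (ComplexShape.up ℤ)).hom.app I

@[simp] lemma gammaf_f (I : CochainComplex X.Modules ℤ) (n : ℤ) :
    (gammaf j I).f n = (CxOX.gammaZι j).app (I.X n) := by
  simp [gammaf]
  exact Category.comp_id _

/-- The short complex `Γ_Z I ⟶ I ⟶ j_* (I|U)`. -/
def gammaSES (I : CochainComplex X.Modules ℤ) : ShortComplex (CochainComplex X.Modules ℤ) :=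
  ShortComplex.mk (gammaf j I)
    ((Functor.mapHomologicalComplexIdIso X.Modules (ComplexShape.up ℤ)).inv.app I ≫
      (NatTrans.mapHomologicalComplex (Scheme.Modules.restrictAdjunction j).unit (ComplexShape.up ℤ)).app I)
    (HomologicalComplex.hom_ext _ _ fun n => by
      simp only [HomologicalComplex.comp_f, HomologicalComplex.zero_f, gammaf_f,
        NatTrans.mapHomologicalComplex_app_f]
      simp only [Functor.mapHomologicalComplexIdIso_inv_app_f, Category.id_comp]
      exact kernel.condition _)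

lemma shortExact_gammaSES (I : CochainComplex X.Modules ℤ) (hI : ∀ n, Injective (I.X n)) :
    (gammaSES j I).ShortExact := by
  refine HomologicalComplex.shortExact_of_degreewise_shortExact _ fun n => ?_
  have e : (gammaSES j I).map (HomologicalComplex.eval X.Modules (ComplexShape.up ℤ) n) ≅
      ShortComplex.mk ((H1LCZ.ιGammaZ j).app (I.X n)) ((Scheme.Modules.restrictAdjunction j).unit.app (I.X n))
        (H1LCZ.wGammaZ j (I.X n)) :=
    ShortComplex.isoMk (Iso.refl _) (Iso.refl _) (Iso.refl _)
      (by simp [gammaSES]; try rfl) (by simp [gammaSES]; try rfl)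
  refine ShortComplex.shortExact_of_iso e.symm ?_
  exact
    { exact := ShortComplex.exact_of_f_is_kernel _ (H1LCZ.hkerGammaZ j (I.X n))
      mono_f := inferInstanceAs (Mono (kernel.ι ((Scheme.Modules.restrictAdjunction j).unit.app (I.X n))))
      epi_g := H1LCZ.epi_unit_of_injectiveMod j _ (hI n) }

/-- Every class has a representative which is K-injective with injective terms. -/
lemma exists_rep (K : DCoh.D X) : ∃ (I : CochainComplex X.Modules ℤ), I.IsKInjective ∧
    (∀ n, Injective (I.X n)) ∧ Nonempty (DerivedCategory.Q.obj I ≅ K) := by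
  obtain ⟨I, s, hI, hs, -, hinj⟩ := TriCat.exists_kInjective_resolution'.{u} (DerivedCategory.Q.objPreimage K)
  haveI := hs
  exact ⟨I, hI, hinj, ⟨(asIso (DerivedCategory.Q.map s)).symm ≪≫ DerivedCategory.Q.objObjPreimageIso K⟩⟩

/-- The canonical map from derived sections with supports completes to a triangle over the
direct image of the restriction. -/
theorem exists_triangle [CxOX.HasRgammaZ j] [DCoh.HasRpush j] (K : DCoh.D X) :
    ∃ (g : K ⟶ (DCoh.Rpush j).obj ((DCoh.restrictD j).obj K))
      (h : (DCoh.Rpush j).obj ((DCoh.restrictD j).obj K) ⟶ ((CxOX.RgammaZ j).obj K)⟦(1 : ℤ)⟧),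
      Triangle.mk ((CxOX.RgammaZToId j).app K) g h ∈ distTriang (DCoh.D X) := by
  obtain ⟨I, hI, hinj, ⟨eK⟩⟩ := exists_rep K
  haveI := hI
  let c := ComplexShape.up ℤ
  let q := HomotopyCategory.quotient X.Modules c
  let R := Scheme.Modules.restrictFunctor j
  let JU : CochainComplex U.Modules ℤ := (R.mapHomologicalComplex c).obj I
  haveI : CochainComplex.IsKInjective JU := isKInjective_rCx j I
  let eQ : DerivedCategory.Qh.obj (q.obj I) ≅ K := (DerivedCategory.quotientCompQhIso X.Modules).app I ≪≫ eK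
  let α := (CxOX.gammaZKh j).totalRightDerivedUnit DerivedCategory.Qh (HomotopyCategory.quasiIso X.Modules c)
  haveI : IsIso (α.app (q.obj I)) := isIso_unit_of_kInjective (CxOX.gammaZKh j) I
  let S := gammaSES j I
  have hS := shortExact_gammaSES j I hinj
  let fΓ : (CxOX.gammaZKh j).obj (q.obj I) ≅ DerivedCategory.Q.obj S.X₁ :=
    DerivedCategory.Qh.mapIso (((DCoh.gammaZ j).mapHomotopyCategoryFactors c).app I) ≪≫
      (DerivedCategory.quotientCompQhIso X.Modules).app S.X₁
  let e₁ : (CxOX.RgammaZ j).obj K ≅ DerivedCategory.Q.obj S.X₁ :=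
    (CxOX.RgammaZ j).mapIso eQ.symm ≪≫ (asIso (α.app (q.obj I))).symm ≪≫ fΓ
  let e₂ : K ≅ DerivedCategory.Q.obj I := eK.symm
  obtain ⟨eU⟩ := nonempty_rpush_iso_of_kInjective (f := j) (I := JU) (Iso.refl _)
  let e₃ : (DCoh.Rpush j).obj ((DCoh.restrictD j).obj K) ≅ DerivedCategory.Q.obj S.X₃ :=
    (DCoh.Rpush j).mapIso ((DCoh.restrictD j).mapIso eK.symm ≪≫ R.mapDerivedCategoryFactors.app I) ≪≫ eU ≪≫
      DerivedCategory.Q.mapIso (HomologicalComplex.Hom.isoOfComponents (fun n => Iso.refl _)
        (fun i k _ => by simp [S, gammaSES, JU]; try rfl))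
  have hfac : α.app (q.obj I) ≫ (CxOX.RgammaZToId j).app (DerivedCategory.Qh.obj (q.obj I)) =
      (CxOX.gammaZKhι j).app (q.obj I) :=
    (Functor.rightDerived_fac_app (CxOX.RgammaZ j) α (HomotopyCategory.quasiIso X.Modules c)
      (𝟭 (DCoh.D X)) (CxOX.gammaZKhι j ≫ (Functor.rightUnitor _).inv) (q.obj I)).trans
      (by simp)
  have hι : (CxOX.gammaZKhι j).app (q.obj I) =
      DerivedCategory.Qh.map (((DCoh.gammaZ j).mapHomotopyCategoryFactors c).hom.app I) ≫
        DerivedCategory.Qh.map (q.map (gammaf j I)) := by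
    simp only [CxOX.gammaZKhι]
    erw [Quotient.natTransLift_app]
    simp only [NatTrans.comp_app, Functor.associator_inv_app, Functor.associator_hom_app,
      Functor.whiskerRight_app, Functor.leftUnitor_hom_app, Functor.comp_map, gammaf, Functor.map_comp]
    erw [Category.id_comp, Category.id_comp, Category.comp_id]
  have comm : (CxOX.RgammaZToId j).app K ≫ e₂.hom = e₁.hom ≫ DerivedCategory.Q.map S.f := by
    have h1 : (CxOX.RgammaZ j).map eQ.hom ≫ (CxOX.RgammaZToId j).app K =
        (CxOX.RgammaZToId j).app (DerivedCategory.Qh.obj (q.obj I)) ≫ eQ.hom :=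
      (CxOX.RgammaZToId j).naturality eQ.hom
    rw [← cancel_epi ((CxOX.RgammaZ j).map eQ.hom), ← cancel_epi (α.app (q.obj I)), reassoc_of% h1,
      reassoc_of% hfac, hι]
    simp only [e₁, e₂, fΓ, Iso.trans_hom, Functor.mapIso_hom, Iso.symm_hom, asIso_inv, Category.assoc,
      Iso.app_hom]
    rw [← Functor.map_comp_assoc (CxOX.RgammaZ j), Iso.hom_inv_id, CategoryTheory.Functor.map_id,
      Category.id_comp, IsIso.hom_inv_id_assoc]
    have h2 := (DerivedCategory.quotientCompQhIso X.Modules).hom.naturality (gammaf j I)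
    simp only [eQ, Iso.trans_hom, Iso.app_hom, Category.assoc, Iso.hom_inv_id, Category.comp_id]
    exact congrArg (DerivedCategory.Qh.map (((DCoh.gammaZ j).mapHomotopyCategoryFactors c).hom.app I) ≫ ·) h2
  let T' := DerivedCategory.triangleOfSES hS
  refine ⟨e₂.hom ≫ T'.mor₂ ≫ e₃.inv, e₃.hom ≫ T'.mor₃ ≫ e₁.inv⟦(1 : ℤ)⟧',
    isomorphic_distinguished _ (DerivedCategory.triangleOfSES_distinguished hS) _ ?_⟩
  refine Triangle.isoMk _ _ e₁ e₂ e₃ comm ?_ ?_
  · show (e₂.hom ≫ T'.mor₂ ≫ e₃.inv) ≫ e₃.hom = e₂.hom ≫ T'.mor₂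
    rw [Category.assoc, Category.assoc, Iso.inv_hom_id, Category.comp_id]
  · show (e₃.hom ≫ T'.mor₃ ≫ e₁.inv⟦(1 : ℤ)⟧') ≫ e₁.hom⟦(1 : ℤ)⟧' = e₃.hom ≫ T'.mor₃
    rw [Category.assoc, Category.assoc, ← Functor.map_comp, Iso.inv_hom_id, CategoryTheory.Functor.map_id]
    erw [Category.comp_id]

end Groth.Agent.SuppD7
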